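import Cfsg.Agent.Fusion.Realization.StableSet
import Cfsg.Agent.Fusion.Basic

/-!
Every fusion system over a finite group is realized inside a finite group.
-/

set_option autoImplicit false
set_option linter.unusedSectionVars false

namespace Cfsg.Lib.Fusion.Realization

open Cfsg Cfsg.FusionSystem Cfsg.Lib.Fusion

universe u

variable {Ω : Type u} [Group Ω] {S : Subgroup Ω} [Finite S]

/-- The graphs of the maps of the system. -/
def diags (F : FusionSystem S) : Set (Subgroup (↥S × ↥S)) :=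
  {L | ∃ (P : Subgroup Ω) (f : Ω → Ω), IsMap F P f ∧
    ∀ z : ↥S × ↥S, z ∈ L ↔ (z.2 : Ω) ∈ P ∧ (z.1 : Ω) = f z.2}

variable {F : FusionSystem S}

theorem diags_mono {L M : Subgroup (↥S × ↥S)} (hL : L ∈ diags F) (hM : M ≤ L) : M ∈ diags F := by
  obtain ⟨P, f, hf, hz⟩ := hL
  set R := (M.map (MonoidHom.snd ↥S ↥S)).map S.subtype
  have hR : R ≤ P := by
    rintro _ ⟨_, ⟨z, hzM, rfl⟩, rfl⟩
    exact ((hz z).mp (hM hzM)).1
  refine ⟨R, f, hf.mono hR, fun z => ⟨fun h => ⟨⟨z.2, ⟨z, h, rfl⟩, rfl⟩, ((hz z).mp (hM h)).2⟩, ?_⟩⟩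
  rintro ⟨⟨_, ⟨w, hw, rfl⟩, hw2⟩, h1⟩
  have e : w = z := Prod.ext (Subtype.ext (by
    rw [((hz w).mp (hM hw)).2, h1, ← hw2]
    rfl)) (Subtype.ext hw2)
  exact e ▸ hw

theorem diags_conj (L : Subgroup (↥S × ↥S)) (g : ↥S × ↥S) (hL : L ∈ diags F) :
    L.map (MulAut.conj g).toMonoidHom ∈ diags F := by
  obtain ⟨P, f, hf, hz⟩ := hL
  obtain ⟨a, b⟩ := g
  have h1 := isMap_conj (F := F) (g := (b : Ω)⁻¹)
    (P := P.map (MulAut.conj (b : Ω)).toMonoidHom) (by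
      rintro _ ⟨x, hx, rfl⟩
      exact S.mul_mem (S.mul_mem b.2 (hf.le hx)) (S.inv_mem b.2)) (S.inv_mem b.2)
  have h2 := h1.comp hf (fun y hy => by
    obtain ⟨x, hx, rfl⟩ := hy
    simpa [mul_assoc] using hx)
  have h3 := h2.comp (isMap_conj (F := F) (g := (a : Ω)) le_rfl a.2) (fun y hy => h2.mem_S hy)
  refine ⟨_, _, h3, fun z => ?_⟩
  constructor
  · rintro ⟨w, hw, rfl⟩
    obtain ⟨hw1, hw2⟩ := (hz w).mp hw
    refine ⟨⟨w.2, hw1, rfl⟩, ?_⟩
    show ((a * w.1 * a⁻¹ : ↥S) : Ω) = _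
    simp [hw2, mul_assoc]
  · rintro ⟨⟨x, hx, hx2⟩, hz1⟩
    have hzb : ((b⁻¹ * z.2 * b : ↥S) : Ω) = x := by
      simp only [Subgroup.coe_mul, InvMemClass.coe_inv, ← hx2]
      show (b : Ω)⁻¹ * ((b : Ω) * x * (b : Ω)⁻¹) * b = x
      group
    refine ⟨(a⁻¹ * z.1 * a, b⁻¹ * z.2 * b), (hz _).mpr ⟨hzb ▸ hx, ?_⟩, ?_⟩
    · show ((a⁻¹ * z.1 * a : ↥S) : Ω) = f ((b⁻¹ * z.2 * b : ↥S) : Ω)
      simp only [Subgroup.coe_mul, InvMemClass.coe_inv, hz1]
      simp [mul_assoc]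
    · simp [mul_assoc]

/-- The diagonal. -/
def top (S : Subgroup Ω) : Subgroup (↥S × ↥S) := ((MonoidHom.id ↥S).prod (MonoidHom.id ↥S)).range

theorem top_mem : top S ∈ diags F := by
  refine ⟨S, id, isMap_id le_rfl, fun z => ⟨?_, fun h => ⟨z.2, Prod.ext (Subtype.ext h.2.symm) rfl⟩⟩⟩
  rintro ⟨x, rfl⟩
  exact ⟨x.2, rfl⟩

theorem exists_realizing (F : FusionSystem S) :
    ∃ (G : Type u) (_ : Group G) (_ : Finite G) (ι : ↥S →* G), F.IsRealizedBy ι := by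
  classical
  have : Fintype (Subgroup (↥S × ↥S)) := Fintype.ofFinite _
  obtain ⟨c, hcD, hc0, hst⟩ := exists_stable (diags F) diags_conj (top S) top_mem
  let X := Bundle c
  let ρ : ↥S →* Equiv.Perm X :=
    (MulAction.toPermHom (↥S × ↥S) X).comp (MonoidHom.inr ↥S ↥S)
  let lam : ↥S →* Equiv.Perm X :=
    (MulAction.toPermHom (↥S × ↥S) X).comp (MonoidHom.inl ↥S ↥S)
  let G : Subgroup (Equiv.Perm X) := Subgroup.centralizer (ρ.range : Set (Equiv.Perm X))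
  have hlam : ∀ s, lam s ∈ G := fun s => Subgroup.mem_centralizer_iff.mpr fun _ ⟨t, ht⟩ => by
    subst ht
    simp only [lam, ρ, MonoidHom.comp_apply, ← map_mul]
    congr 1
    simp
  let ι : ↥S →* G := lam.codRestrict G hlam
  have hstabD : ∀ x : X, MulAction.stabilizer (↥S × ↥S) x ∈ diags F := by
    rintro ⟨⟨L, i⟩, y⟩
    obtain ⟨g, rfl⟩ := QuotientGroup.mk_surjective y
    have hLD : L ∈ diags F := hcD L (fun h => absurd i.2 (by omega))
    refine diags_mono (diags_conj L g hLD) fun z hz => ?_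
    have h1 : z • (QuotientGroup.mk g : (↥S × ↥S) ⧸ L) = QuotientGroup.mk g :=
      (smul_bundle_eq_iff c ⟨L, i⟩ _ z).mp hz
    have h2 := (fix_mk_iff (L := L) (M := Subgroup.zpowers z) g).mp fun m hm => by
      obtain ⟨k, rfl⟩ := hm
      exact MulAction.mem_stabilizer_iff.mp
        (Subgroup.zpow_mem _ (MulAction.mem_stabilizer_iff.mpr h1) k)
    refine ⟨g⁻¹ * z * g, ?_, by simp [mul_assoc]⟩
    simpa using h2 ⟨z, Subgroup.mem_zpowers z, rfl⟩
  obtain ⟨p0, hp0'⟩ : ∃ x : X, ∀ s : ↥S, (s, s) • x = x ∧ ((s, (1 : ↥S)) • x = x → s = 1) := by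
    refine ⟨⟨⟨top S, ⟨0, Nat.pos_of_ne_zero hc0⟩⟩, QuotientGroup.mk 1⟩, fun s => ⟨?_, fun h => ?_⟩⟩
    · refine (smul_bundle_eq_iff c _ _ _).mpr ?_
      show (QuotientGroup.mk ((s, s) * 1) : (↥S × ↥S) ⧸ top S) = QuotientGroup.mk 1
      rw [eq_comm, QuotientGroup.eq]
      exact ⟨s, by simp⟩
    · have h2 : (QuotientGroup.mk ((s, 1) * 1) : (↥S × ↥S) ⧸ top S) = QuotientGroup.mk 1 :=
        (smul_bundle_eq_iff c _ _ _).mp h
      rw [eq_comm, QuotientGroup.eq] at h2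
      obtain ⟨x, hx⟩ := h2
      simp [Prod.ext_iff] at hx
      exact hx.1.symm.trans hx.2
  refine ⟨G, inferInstance, inferInstance, ι, ?_, fun P hP φ hφ => ⟨fun hmem => ?_, ?_⟩⟩
  · rw [injective_iff_map_eq_one]
    intro s hs
    exact (hp0' s).2 (congrArg (fun e : G => (e : Equiv.Perm X) p0) hs)
  · -- maps of the system are induced
    set P' := P.subgroupOf S
    have hmap := isMap_of_mem hmem
    let φ' : ↥P' →* ↥S :=
      { toFun := fun x => ⟨φ ⟨x.1, x.2⟩, hφ _⟩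
        map_one' := Subtype.ext (map_one φ)
        map_mul' := fun x y => Subtype.ext (map_mul φ ⟨x.1, x.2⟩ ⟨y.1, y.2⟩) }
    let h1 : ↥P' × ↥S →* ↥S × ↥S := P'.subtype.prodMap (MonoidHom.id ↥S)
    let h2 : ↥P' × ↥S →* ↥S × ↥S := φ'.prodMap (MonoidHom.id ↥S)
    have hinj1 : Function.Injective h1 := Prod.map_injective.mpr ⟨P'.subtype_injective, fun _ _ h => h⟩
    have hinj2 : Function.Injective h2 := by
      rintro ⟨x, s⟩ ⟨y, t⟩ h
      have e1 : φ ⟨x.1, x.2⟩ = φ ⟨y.1, y.2⟩ := congrArg Subtype.val (congrArg Prod.fst h)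
      exact Prod.ext (Subtype.ext (Subtype.ext (congrArg Subtype.val (F.injective_of_mem hmem e1) :)))
        (show s = t from congrArg Prod.snd h)
    let a1 : MulAction (↥P' × ↥S) X := MulAction.compHom X h1
    let a2 : MulAction (↥P' × ↥S) X := MulAction.compHom X h2
    have hfixmap : ∀ (h : ↥P' × ↥S →* ↥S × ↥S) (B : Subgroup (↥P' × ↥S)),
        Nat.card (@FixSub (↥P' × ↥S) _ B X (MulAction.compHom X h)) = mark c (B.map h) := fun h B => by
      rw [← card_fix_bundle]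
      exact Nat.card_congr (Equiv.subtypeEquivRight fun x =>
        ⟨fun hx => by rintro _ ⟨b, hb, rfl⟩; exact hx b hb, fun hx b hb => hx _ ⟨b, hb, rfl⟩⟩)
    have hiff : ∀ B : Subgroup (↥P' × ↥S), B.map h1 ∈ diags F ↔ B.map h2 ∈ diags F := by
      intro B
      obtain ⟨d, hd, -, hdl, -⟩ := hmap.exists_inv
      constructor
      · rintro ⟨R, f, hf, hz⟩
        set R0 := (B.map (MonoidHom.snd ↥P' ↥S)).map S.subtype
        have hR0 : R0 ≤ R := by
          rintro _ ⟨_, ⟨w, hw, rfl⟩, rfl⟩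
          exact ((hz (h1 w)).mp ⟨w, hw, rfl⟩).1
        have hcomp : IsMap F R0 (toFun' φ ∘ f) := (hf.mono hR0).comp hmap (by
          rintro _ ⟨_, ⟨w, hw, rfl⟩, rfl⟩
          have h := ((hz (h1 w)).mp ⟨w, hw, rfl⟩).2
          exact h.subst (motive := fun t => t ∈ P) w.1.2)
        refine ⟨R0, _, hcomp, fun z => ⟨?_, ?_⟩⟩
        · rintro ⟨w, hw, rfl⟩
          refine ⟨⟨_, ⟨w, hw, rfl⟩, rfl⟩, ?_⟩
          show φ ⟨w.1.1, w.1.2⟩ = toFun' φ (f (w.2 : Ω))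
          rw [show f (w.2 : Ω) = (w.1.1 : Ω) from ((hz (h1 w)).mp ⟨w, hw, rfl⟩).2.symm]
          exact (toFun'_apply φ ⟨_, w.1.2⟩).symm
        · rintro ⟨⟨_, ⟨w, hw, rfl⟩, hw2⟩, hz1⟩
          refine ⟨w, hw, Prod.ext (Subtype.ext ?_) (Subtype.ext hw2)⟩
          show φ ⟨w.1.1, w.1.2⟩ = (z.1 : Ω)
          rw [hz1, ← hw2]
          show _ = toFun' φ (f (w.2 : Ω))
          rw [show f (w.2 : Ω) = (w.1.1 : Ω) from ((hz (h1 w)).mp ⟨w, hw, rfl⟩).2.symm]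
          exact (toFun'_apply φ ⟨_, w.1.2⟩).symm
      · rintro ⟨R, f, hf, hz⟩
        set R0 := (B.map (MonoidHom.snd ↥P' ↥S)).map S.subtype
        have hR0 : R0 ≤ R := by
          rintro _ ⟨_, ⟨w, hw, rfl⟩, rfl⟩
          exact ((hz (h2 w)).mp ⟨w, hw, rfl⟩).1
        have hval : ∀ w ∈ B, f (w.2 : Ω) ∈ img P (toFun' φ) ∧ d (f (w.2 : Ω)) = (w.1.1 : Ω) := fun w hw => by
          rw [show f (w.2 : Ω) = φ ⟨w.1.1, w.1.2⟩ from ((hz (h2 w)).mp ⟨w, hw, rfl⟩).2.symm]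
          exact ⟨(toFun'_apply φ ⟨_, w.1.2⟩).subst (motive := fun t => t ∈ img P (toFun' φ))
              (IsMap.apply_mem_img w.1.2),
            (congrArg d (toFun'_apply φ ⟨_, w.1.2⟩).symm).trans (hdl _ w.1.2)⟩
        have hcomp : IsMap F R0 (d ∘ f) := (hf.mono hR0).comp hd (by
          rintro _ ⟨_, ⟨w, hw, rfl⟩, rfl⟩
          exact (hval w hw).1)
        refine ⟨R0, _, hcomp, fun z => ⟨?_, ?_⟩⟩
        · rintro ⟨w, hw, rfl⟩
          exact ⟨⟨_, ⟨w, hw, rfl⟩, rfl⟩, (hval w hw).2.symm⟩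
        · rintro ⟨⟨_, ⟨w, hw, rfl⟩, hw2⟩, hz1⟩
          refine ⟨w, hw, Prod.ext (Subtype.ext ?_) (Subtype.ext hw2)⟩
          show (w.1.1 : Ω) = (z.1 : Ω)
          rw [hz1, ← hw2]
          exact (hval w hw).2.symm
    have hzero : ∀ M : Subgroup (↥S × ↥S), M ∉ diags F → mark c M = 0 := fun M hM => by
      rw [← card_fix_bundle, Nat.card_eq_zero]
      exact Or.inl ⟨fun ⟨x, hx⟩ => hM (diags_mono (hstabD x) fun m hm => hx m hm)⟩
    have hmarks : ∀ B : Subgroup (↥P' × ↥S),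
        Nat.card (@FixSub _ _ B X a1) = Nat.card (@FixSub _ _ B X a2) := fun B => by
      rw [show Nat.card (@FixSub _ _ B X a1) = _ from hfixmap h1 B,
        show Nat.card (@FixSub _ _ B X a2) = _ from hfixmap h2 B]
      by_cases hB : B.map h1 ∈ diags F
      · exact hst _ hB _ ((hiff B).mp hB)
          (by rw [Subgroup.card_map_of_injective hinj1, Subgroup.card_map_of_injective hinj2])
      · rw [hzero _ hB, hzero _ fun h => hB ((hiff B).mpr h)]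
    obtain ⟨e, he⟩ := @exists_equivariant_equiv (↥P' × ↥S) _ (Nat.card X) X X a1 a2 _ _ _ rfl hmarks
    have he' : ∀ (w : ↥P' × ↥S) x, e (h1 w • x) = h2 w • e x := he
    have heG : (e : Equiv.Perm X) ∈ G := Subgroup.mem_centralizer_iff.mpr fun _ ⟨t, ht⟩ => by
      subst ht
      refine Equiv.ext fun x => ?_
      show ((1, t) : ↥S × ↥S) • e x = e (((1, t) : ↥S × ↥S) • x)
      have := he' (1, t) x
      simp only [h1, h2, MonoidHom.prodMap, MonoidHom.prod_apply, MonoidHom.comp_apply, MonoidHom.coe_fst,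
        MonoidHom.coe_snd, map_one, MonoidHom.id_apply] at this
      exact this.symm
    refine ⟨⟨e, heG⟩, fun x => Subtype.ext (Equiv.ext fun y => ?_)⟩
    show ((⟨φ x, hφ x⟩, 1) : ↥S × ↥S) • y = e (((⟨(x : Ω), hP x.2⟩, 1) : ↥S × ↥S) • e.symm y)
    have := he' (⟨⟨x, hP x.2⟩, x.2⟩, 1) (e.symm y)
    rw [Equiv.apply_symm_apply] at this
    exact this.symm
  · -- induced maps belong to the system
    rintro ⟨g, hg⟩
    set q := (g : Equiv.Perm X) p0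
    obtain ⟨P₀, f, hf, hz⟩ := hstabD q
    have hmem : ∀ x : P, ((⟨φ x, hφ x⟩, ⟨x, hP x.2⟩) : ↥S × ↥S) ∈ MulAction.stabilizer (↥S × ↥S) q := fun x => by
      rw [MulAction.mem_stabilizer_iff]
      set t : ↥S := ⟨x, hP x.2⟩
      have h1 := congrArg (fun e : G => (e : Equiv.Perm X) (((1, t) : ↥S × ↥S) • q)) (hg x)
      have hc : ((1, t) : ↥S × ↥S) • q = (g : Equiv.Perm X) (((1, t) : ↥S × ↥S) • p0) :=
        congrArg (fun e : Equiv.Perm X => e p0) (Subgroup.mem_centralizer_iff.mp g.2 (ρ t) ⟨t, rfl⟩)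
      calc ((⟨φ x, hφ x⟩, t) : ↥S × ↥S) • q = ((⟨φ x, hφ x⟩, 1) : ↥S × ↥S) • ((1, t) : ↥S × ↥S) • q := by
            rw [smul_smul]; simp
        _ = (g : Equiv.Perm X) (((t, 1) : ↥S × ↥S) • ((g : Equiv.Perm X).symm (((1, t) : ↥S × ↥S) • q))) := h1
        _ = q := by
            rw [hc, Equiv.symm_apply_apply, smul_smul]
            simp [q, (hp0' t).1]
    have hle : P ≤ P₀ := fun x hx => ((hz _).mp (hmem ⟨x, hx⟩)).1
    exact (hf.mono hle).mem_of_agree fun x => ((hz _).mp (hmem x)).2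

end Cfsg.Lib.Fusion.Realization
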