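import Mathlib

/-!
Finite sets with an action are determined by their numbers of fixed points.
-/

set_option autoImplicit false

namespace Cfsg.Lib.Fusion.Realization

universe u v w

variable {A : Type w} [Group A]

/-- The points fixed by a subgroup. -/
def FixSub (B : Subgroup A) (X : Type u) [MulAction A X] : Type u := {x : X // ∀ b ∈ B, b • x = x}

instance (B : Subgroup A) (X : Type u) [MulAction A X] [Finite X] : Finite (FixSub B X) := Subtype.finite

/-- An equivariant bijection preserves the fixed points. -/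
def fixCongr {X : Type u} {Y : Type v} [MulAction A X] [MulAction A Y] (e : X ≃ Y)
    (he : ∀ (a : A) x, e (a • x) = a • e x) (B : Subgroup A) : FixSub B X ≃ FixSub B Y :=
  e.subtypeEquiv fun x => by simp only [← he, e.injective.eq_iff]

/-- Everything is fixed by the trivial subgroup. -/
def fixBot (X : Type u) [MulAction A X] : FixSub (⊥ : Subgroup A) X ≃ X where
  toFun := Subtype.val
  invFun x := ⟨x, fun b hb => by rw [Subgroup.mem_bot.mp hb, one_smul]⟩
  left_inv _ := rfl
  right_inv _ := rfl

/-- The complement of an orbit. -/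
def offOrbit {X : Type u} [MulAction A X] (x : X) : SubMulAction A X where
  carrier := (MulAction.orbit A x)ᶜ
  smul_mem' a z hz h := by
    obtain ⟨b, hb⟩ := h
    refine hz ⟨a⁻¹ * b, ?_⟩
    show (a⁻¹ * b) • x = z
    rw [mul_smul, show b • x = a • z from hb, inv_smul_smul]

/-- An orbit. -/
def onOrbit {X : Type u} [MulAction A X] (x : X) : SubMulAction A X where
  carrier := MulAction.orbit A x
  smul_mem' a z hz := by
    obtain ⟨b, rfl⟩ := hz
    exact ⟨a * b, mul_smul a b x⟩

theorem card_fix_split {X : Type u} [MulAction A X] [Finite X] (x : X) (B : Subgroup A) :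
    Nat.card (FixSub B X) = Nat.card (FixSub B (onOrbit (A := A) x)) + Nat.card (FixSub B (offOrbit (A := A) x)) := by
  classical
  rw [← Nat.card_sum]
  refine Nat.card_congr
    { toFun := fun z => if h : z.1 ∈ MulAction.orbit A x then Sum.inl ⟨⟨z.1, h⟩, fun b hb => Subtype.ext (z.2 b hb)⟩
        else Sum.inr ⟨⟨z.1, h⟩, fun b hb => Subtype.ext (z.2 b hb)⟩
      invFun := Sum.elim (fun z => ⟨z.1.1, fun b hb => congrArg Subtype.val (z.2 b hb)⟩)
        (fun z => ⟨z.1.1, fun b hb => congrArg Subtype.val (z.2 b hb)⟩)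
      left_inv := fun z => by by_cases h : z.1 ∈ MulAction.orbit A x <;> simp only [h, dif_pos, dif_neg,
        not_false_eq_true] <;> rfl
      right_inv := fun z => by
        rcases z with ⟨⟨z, hz⟩, hb⟩ | ⟨⟨z, hz⟩, hb⟩
        · exact dif_pos (c := z ∈ MulAction.orbit A x) hz
        · exact dif_neg (c := z ∈ MulAction.orbit A x) hz }

/-- Burnside's criterion. -/
theorem exists_equivariant_equiv : ∀ (n : ℕ) (X : Type u) (Y : Type v) [MulAction A X] [MulAction A Y]
    [Finite X] [Finite Y] [Finite A], Nat.card X = n →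
    (∀ B : Subgroup A, Nat.card (FixSub B X) = Nat.card (FixSub B Y)) →
    ∃ e : X ≃ Y, ∀ (a : A) x, e (a • x) = a • e x := by
  intro n
  induction n using Nat.strong_induction_on with
  | _ n ih =>
  intro X Y _ _ _ _ _ hn hfix
  classical
  have hcard : Nat.card X = Nat.card Y := by
    have h := hfix ⊥
    rwa [Nat.card_congr (fixBot X), Nat.card_congr (fixBot Y)] at h
  rcases isEmpty_or_nonempty X with hX | hX
  · have : IsEmpty Y := (Finite.card_eq_zero_iff.mp (hcard ▸ Finite.card_eq_zero_iff.mpr hX) : _)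
    exact ⟨Equiv.equivOfIsEmpty X Y, fun a x => isEmptyElim x⟩
  obtain ⟨x, hx⟩ := Finite.exists_max fun x : X => Nat.card (MulAction.stabilizer A x)
  set H := MulAction.stabilizer A x with hH
  obtain ⟨y, hy⟩ : ∃ y : Y, ∀ b ∈ H, b • y = y := by
    have h1 : 0 < Nat.card (FixSub H Y) := by
      rw [← hfix H]
      have : Nonempty (FixSub H X) := ⟨⟨x, fun b hb => hb⟩⟩
      exact Nat.card_pos
    obtain ⟨⟨y, hy⟩⟩ := (Nat.card_pos_iff.mp h1).1
    exact ⟨y, hy⟩
  have hstab : MulAction.stabilizer A y = H := by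
    refine (Subgroup.eq_of_le_of_card_ge (fun b hb => hy b hb) ?_).symm
    have h1 : 0 < Nat.card (FixSub (MulAction.stabilizer A y) X) := by
      rw [hfix]
      have : Nonempty (FixSub (MulAction.stabilizer A y) Y) := ⟨⟨y, fun b hb => hb⟩⟩
      exact Nat.card_pos
    obtain ⟨⟨x', hx'⟩⟩ := (Nat.card_pos_iff.mp h1).1
    exact (Subgroup.card_le_of_le (K := MulAction.stabilizer A x') fun b hb => hx' b hb).trans (hx x')
  -- the orbits
  have key : ∀ a b : A, a • x = b • x ↔ a • y = b • y := fun a b => by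
    rw [show a • x = b • x ↔ b⁻¹ * a ∈ MulAction.stabilizer A x by
        rw [MulAction.mem_stabilizer_iff, mul_smul, inv_smul_eq_iff],
      show a • y = b • y ↔ b⁻¹ * a ∈ MulAction.stabilizer A y by
        rw [MulAction.mem_stabilizer_iff, mul_smul, inv_smul_eq_iff], ← hH, hstab]
  let f : onOrbit (A := A) x → onOrbit (A := A) y := fun z =>
    ⟨Classical.choose (MulAction.mem_orbit_iff.mp z.2) • y, MulAction.mem_orbit _ _⟩
  have hf : ∀ (z : onOrbit (A := A) x) (a : A), a • x = z.1 → (f z).1 = a • y := fun z a ha =>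
    (key _ _).mp ((Classical.choose_spec (MulAction.mem_orbit_iff.mp z.2)).trans ha.symm)
  have hfbij : Function.Bijective f := by
    refine ⟨fun z z' h => ?_, fun w => ?_⟩
    · obtain ⟨a, ha⟩ := MulAction.mem_orbit_iff.mp z.2
      obtain ⟨b, hb⟩ := MulAction.mem_orbit_iff.mp z'.2
      have h' := congrArg Subtype.val h
      rw [hf z a ha, hf z' b hb] at h'
      exact Subtype.ext (by rw [← ha, ← hb, (key a b).mpr h'])
    · obtain ⟨a, ha⟩ := MulAction.mem_orbit_iff.mp w.2
      exact ⟨⟨a • x, MulAction.mem_orbit _ _⟩, Subtype.ext ((hf _ a rfl).trans ha)⟩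
  let θ : onOrbit (A := A) x ≃ onOrbit (A := A) y := Equiv.ofBijective f hfbij
  have hθ : ∀ (a : A) z, θ (a • z) = a • θ z := fun a z => by
    obtain ⟨b, hb⟩ := MulAction.mem_orbit_iff.mp z.2
    refine Subtype.ext ?_
    show (f (a • z)).1 = a • (f z).1
    rw [hf z b hb, hf (a • z) (a * b) (by rw [mul_smul, hb]; rfl), mul_smul]
  have hlt : Nat.card (offOrbit (A := A) x) < n := hn ▸
    Finite.card_subtype_lt (x := x) (fun h => h (MulAction.mem_orbit_self x))
  obtain ⟨e', he'⟩ := ih _ hlt (offOrbit (A := A) x) (offOrbit (A := A) y) rfl fun B => by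
    have h := hfix B
    rw [card_fix_split x, card_fix_split y, Nat.card_congr (fixCongr θ hθ B)] at h
    omega
  let e : X ≃ Y :=
    { toFun := fun z => if h : z ∈ MulAction.orbit A x then (θ ⟨z, h⟩).1 else (e' ⟨z, h⟩).1
      invFun := fun w => if h : w ∈ MulAction.orbit A y then (θ.symm ⟨w, h⟩).1 else (e'.symm ⟨w, h⟩).1
      left_inv := fun z => by
        by_cases h : z ∈ MulAction.orbit A x
        · simp only [dif_pos h]
          rw [dif_pos (show (θ ⟨z, h⟩).1 ∈ MulAction.orbit A y from (θ ⟨z, h⟩).2)]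
          simp
        · simp only [dif_neg h]
          rw [dif_neg (show ¬ (e' ⟨z, h⟩).1 ∈ MulAction.orbit A y from (e' ⟨z, h⟩).2)]
          simp
      right_inv := fun w => by
        by_cases h : w ∈ MulAction.orbit A y
        · simp only [dif_pos h]
          rw [dif_pos (show (θ.symm ⟨w, h⟩).1 ∈ MulAction.orbit A x from (θ.symm ⟨w, h⟩).2)]
          simp
        · simp only [dif_neg h]
          rw [dif_neg (show ¬ (e'.symm ⟨w, h⟩).1 ∈ MulAction.orbit A x from (e'.symm ⟨w, h⟩).2)]
          simp }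
  refine ⟨e, fun a z => ?_⟩
  by_cases h : z ∈ MulAction.orbit A x
  · show (if h : a • z ∈ MulAction.orbit A x then _ else _) = a • (if h : z ∈ MulAction.orbit A x then _ else _)
    rw [dif_pos (show a • z ∈ MulAction.orbit A x from (onOrbit x).smul_mem a h), dif_pos h]
    exact congrArg Subtype.val (hθ a ⟨z, h⟩)
  · show (if h : a • z ∈ MulAction.orbit A x then _ else _) = a • (if h : z ∈ MulAction.orbit A x then _ else _)
    rw [dif_neg (show ¬ a • z ∈ MulAction.orbit A x from (offOrbit x).smul_mem a h), dif_neg h]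
    exact congrArg Subtype.val (he' a ⟨z, h⟩)

end Cfsg.Lib.Fusion.Realization
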