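import Cfsg.Agent.Fusion.Realization.Marks

/-!
A finite set with prescribed stabilizers all of whose marks depend only on the order.
-/

set_option autoImplicit false
set_option linter.unusedSectionVars false

namespace Cfsg.Lib.Fusion.Realization

universe u

variable {K : Type u} [Group K] [Finite K]

/-- The mark of a coset space. -/
noncomputable def cosetMark (L M : Subgroup K) : ℕ := Nat.card (FixSub M (K ⧸ L))

/-- The disjoint union of coset spaces with multiplicities. -/
abbrev Bundle (c : Subgroup K → ℕ) : Type u := Σ q : (L : Subgroup K) × Fin (c L), K ⧸ q.1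

/-- The mark of a bundle. -/
noncomputable def mark [Fintype (Subgroup K)] (c : Subgroup K → ℕ) (M : Subgroup K) : ℕ :=
  ∑ L : Subgroup K, c L * cosetMark L M

omit [Finite K] in
theorem fix_mk_iff {L M : Subgroup K} (g : K) :
    (∀ m ∈ M, m • (QuotientGroup.mk g : K ⧸ L) = QuotientGroup.mk g) ↔
      M.map (MulAut.conj g⁻¹).toMonoidHom ≤ L := by
  have h : ∀ m : K, m • (QuotientGroup.mk g : K ⧸ L) = QuotientGroup.mk g ↔ g⁻¹ * m * g ∈ L := fun m => by
    rw [eq_comm]
    show (QuotientGroup.mk g : K ⧸ L) = QuotientGroup.mk (m * g) ↔ _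
    rw [QuotientGroup.eq, mul_assoc]
  constructor
  · rintro hm _ ⟨m, hm', rfl⟩
    simpa using (h m).mp (hm m hm')
  · exact fun hle m hm => (h m).mpr (by simpa using hle ⟨m, hm, rfl⟩)

theorem card_le_of_cosetMark_ne_zero {L M : Subgroup K} (h : cosetMark L M ≠ 0) :
    ∃ g : K, M.map (MulAut.conj g⁻¹).toMonoidHom ≤ L := by
  obtain ⟨⟨x, hx⟩⟩ := (Nat.card_pos_iff.mp (Nat.pos_of_ne_zero h)).1
  obtain ⟨g, rfl⟩ := QuotientGroup.mk_surjective x
  exact ⟨g, (fix_mk_iff g).mp hx⟩

theorem cosetMark_mul_card (L M : Subgroup K) :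
    cosetMark L M * Nat.card L = Nat.card {g : K // M.map (MulAut.conj g⁻¹).toMonoidHom ≤ L} := by
  set t : Set (K ⧸ L) := {x | ∀ m ∈ M, m • x = x}
  rw [show {g : K // M.map (MulAut.conj g⁻¹).toMonoidHom ≤ L} = {g : K // (g : K ⧸ L) ∈ t} by
    simp only [t, Set.mem_ofPred_eq, fix_mk_iff]]
  show _ = Nat.card ↥((QuotientGroup.mk : K → K ⧸ L) ⁻¹' t)
  rw [Nat.card_congr (QuotientGroup.preimageMkEquivSubgroupProdSet L t), Nat.card_prod, mul_comm]
  rfl

theorem smul_bundle_eq_iff (c : Subgroup K → ℕ) (q : (L : Subgroup K) × Fin (c L)) (x : K ⧸ q.1) (m : K) :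
    m • (⟨q, x⟩ : Bundle c) = ⟨q, x⟩ ↔ m • x = x :=
  ⟨fun h => eq_of_heq (Sigma.mk.inj h).2, fun h => by rw [Sigma.smul_mk, h]⟩

/-- The fixed points of a bundle. -/
def fixBundle (c : Subgroup K → ℕ) (M : Subgroup K) :
    FixSub M (Bundle c) ≃ Σ q : (L : Subgroup K) × Fin (c L), FixSub M (K ⧸ q.1) where
  toFun z := ⟨z.1.1, z.1.2, fun m hm => (smul_bundle_eq_iff c _ _ m).mp (z.2 m hm)⟩
  invFun z := ⟨⟨z.1, z.2.1⟩, fun m hm => (smul_bundle_eq_iff c _ _ m).mpr (z.2.2 m hm)⟩
  left_inv _ := rfl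
  right_inv _ := rfl

theorem card_fix_bundle [Fintype (Subgroup K)] (c : Subgroup K → ℕ) (M : Subgroup K) :
    Nat.card (FixSub M (Bundle c)) = mark c M := by
  classical
  have : Fintype K := Fintype.ofFinite K
  rw [Nat.card_congr (fixBundle c M), Nat.card_sigma, Fintype.sum_sigma]
  exact Finset.sum_congr rfl fun L _ => by
    show (∑ _y, cosetMark L M) = _
    rw [Finset.sum_const, Finset.card_univ, ← Nat.card_eq_fintype_card, Nat.card_fin, smul_eq_mul]

/-- Counting the conjugates. -/
theorem sum_level [Fintype (Subgroup K)] (D : Set (Subgroup K)) [DecidablePred (· ∈ D)]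
    (hconj : ∀ (L : Subgroup K) (g : K), L ∈ D → L.map (MulAut.conj g).toMonoidHom ∈ D)
    (a : Subgroup K → ℕ) (N : ℕ) (M : Subgroup K) (hMD : M ∈ D) (hM : Nat.card M = N)
    (ha : ∀ (g : K), a (M.map (MulAut.conj g).toMonoidHom) = a M) :
    (∑ L : Subgroup K, (if L ∈ D ∧ Nat.card L = N then a L else 0) * cosetMark L M) * N =
      a M * Nat.card K := by
  classical
  have : Fintype K := Fintype.ofFinite K
  have hcm : ∀ g : K, Nat.card (M.map (MulAut.conj g⁻¹).toMonoidHom) = N := fun g => by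
    rw [Subgroup.card_map_of_injective (MulAut.conj g⁻¹).injective, hM]
  rw [Finset.sum_mul, Nat.card_eq_fintype_card, ← Finset.card_univ, mul_comm (a M), ← smul_eq_mul,
    ← Finset.sum_const,
    ← Finset.sum_fiberwise (Finset.univ : Finset K) fun g => M.map (MulAut.conj g⁻¹).toMonoidHom]
  refine Finset.sum_congr rfl fun L _ => ?_
  rw [Finset.sum_const, smul_eq_mul]
  by_cases hL : L ∈ D ∧ Nat.card L = N
  · rw [if_pos hL, mul_assoc]
    nth_rw 1 [← hL.2]
    rw [cosetMark_mul_card, Nat.card_eq_fintype_card, Fintype.card_subtype]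
    have hfilter : (Finset.univ.filter fun g : K => M.map (MulAut.conj g⁻¹).toMonoidHom ≤ L) =
        Finset.univ.filter fun g : K => M.map (MulAut.conj g⁻¹).toMonoidHom = L := by
      refine Finset.filter_congr fun g _ => ⟨fun h => Subgroup.eq_of_le_of_card_ge h ?_, fun h => h.le⟩
      rw [hcm, hL.2]
    rw [hfilter]
    rcases (Finset.univ.filter fun g : K => M.map (MulAut.conj g⁻¹).toMonoidHom = L).eq_empty_or_nonempty with
      he | ⟨g, hg⟩
    · rw [he, Finset.card_empty, zero_mul, mul_zero]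
    · rw [← (Finset.mem_filter.mp hg).2, ha g⁻¹, mul_comm]
  · rw [if_neg hL, zero_mul, zero_mul]
    rw [Finset.card_eq_zero.mpr, zero_mul]
    refine Finset.filter_eq_empty_iff.mpr fun g _ h => hL ?_
    rw [← h]
    exact ⟨hconj M g⁻¹ hMD, hcm g⟩

theorem mark_conj [Fintype (Subgroup K)] (c : Subgroup K → ℕ) (M : Subgroup K) (g : K) :
    mark c (M.map (MulAut.conj g).toMonoidHom) = mark c M := by
  rw [← card_fix_bundle, ← card_fix_bundle]
  have h1 : ∀ z : FixSub M (Bundle c), ∀ m ∈ M.map (MulAut.conj g).toMonoidHom, m • g • z.1 = g • z.1 := by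
    rintro z _ ⟨m, hm, rfl⟩
    show (g * m * g⁻¹) • g • z.1 = g • z.1
    rw [smul_smul, inv_mul_cancel_right, mul_smul, z.2 m hm]
  have h2 : ∀ z : FixSub (M.map (MulAut.conj g).toMonoidHom) (Bundle c), ∀ m ∈ M, m • g⁻¹ • z.1 = g⁻¹ • z.1 := by
    intro z m hm
    have := z.2 (g * m * g⁻¹) ⟨m, hm, rfl⟩
    rw [mul_assoc, mul_smul, mul_smul] at this
    exact eq_inv_smul_iff.mpr this
  exact (Nat.card_congr (show FixSub M (Bundle c) ≃ FixSub (M.map (MulAut.conj g).toMonoidHom) (Bundle c) from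
    { toFun := fun z => ⟨g • z.1, h1 z⟩
      invFun := fun z => ⟨g⁻¹ • z.1, h2 z⟩
      left_inv := fun z => Subtype.ext (inv_smul_smul g z.1)
      right_inv := fun z => Subtype.ext (smul_inv_smul g z.1) })).symm

/-- The stabilization. -/
theorem exists_stable [Fintype (Subgroup K)] (D : Set (Subgroup K))
    (hconj : ∀ (L : Subgroup K) (g : K), L ∈ D → L.map (MulAut.conj g).toMonoidHom ∈ D)
    (d₀ : Subgroup K) (hd₀ : d₀ ∈ D) :
    ∃ c : Subgroup K → ℕ, (∀ L, c L ≠ 0 → L ∈ D) ∧ c d₀ ≠ 0 ∧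
      ∀ M ∈ D, ∀ M' ∈ D, Nat.card M = Nat.card M' → mark c M = mark c M' := by
  classical
  suffices h : ∀ k : ℕ, ∃ c : Subgroup K → ℕ, (∀ L, c L ≠ 0 → L ∈ D) ∧ c d₀ ≠ 0 ∧
      ∀ M ∈ D, ∀ M' ∈ D, Nat.card M = Nat.card M' → Nat.card K < Nat.card M + k → mark c M = mark c M' by
    obtain ⟨c, h1, h2, h3⟩ := h (Nat.card K + 1)
    exact ⟨c, h1, h2, fun M hM M' hM' he => h3 M hM M' hM' he (by omega)⟩
  intro k
  induction k with
  | zero =>
    refine ⟨fun L => if L = d₀ then 1 else 0, fun L h => ?_, by simp, fun M _ M' _ _ hlt => ?_⟩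
    · by_cases e : L = d₀
      · exact e ▸ hd₀
      · simp [e] at h
    · exact absurd hlt (by have := M.card_le_card_group; omega)
  | succ k ih =>
    obtain ⟨c, hcD, hc0, hst⟩ := ih
    set N := Nat.card K - k
    by_cases hN : N = 0
    · refine ⟨c, hcD, hc0, fun M hM M' hM' he hlt => hst M hM M' hM' he ?_⟩
      have : 0 < Nat.card M := Nat.card_pos
      omega
    set R := Nat.card K / N
    have hR : 0 < R := Nat.div_pos (Nat.sub_le _ _) (Nat.pos_of_ne_zero hN)
    set T := (Finset.univ : Finset (Subgroup K)).sup (mark c)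
    set a : Subgroup K → ℕ := fun L => T - mark c L
    set c' : Subgroup K → ℕ := fun L => R * c L + if L ∈ D ∧ Nat.card L = N then a L else 0
    have hmark : ∀ M, mark c' M =
        R * mark c M + ∑ L, (if L ∈ D ∧ Nat.card L = N then a L else 0) * cosetMark L M := fun M => by
      simp only [mark, c', add_mul, Finset.sum_add_distrib, mul_assoc, ← Finset.mul_sum]
    refine ⟨c', fun L h => ?_, ?_, fun M hM M' hM' he hlt => ?_⟩
    · by_contra hL
      simp only [c', hL, false_and, if_false, add_zero, mul_ne_zero_iff] at h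
      exact hL (hcD L h.2)
    · simp only [c', ne_eq, Nat.add_eq_zero_iff, mul_eq_zero, hc0, or_false]
      omega
    · rcases Nat.lt_or_ge N (Nat.card M) with hlt' | hge
      · have hzero : ∀ M : Subgroup K, N < Nat.card M →
            ∑ L, (if L ∈ D ∧ Nat.card L = N then a L else 0) * cosetMark L M = 0 := fun M hM => by
          refine Finset.sum_eq_zero fun L _ => ?_
          split_ifs with hL
          · refine mul_eq_zero_of_right _ ?_
            by_contra hne
            obtain ⟨g, hg⟩ := card_le_of_cosetMark_ne_zero hne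
            have := Subgroup.card_le_of_le hg
            rw [Subgroup.card_map_of_injective (MulAut.conj g⁻¹).injective] at this
            omega
          · exact zero_mul _
        rw [hmark, hmark, hzero M hlt', hzero M' (he ▸ hlt'), hst M hM M' hM' he (by omega)]
      · have hMN : Nat.card M = N := by omega
        have key : ∀ M : Subgroup K, M ∈ D → Nat.card M = N → mark c' M = R * T := fun M hM hMN => by
          have h1 := sum_level D hconj a N M hM hMN fun g => by simp only [a, mark_conj]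
          have h2 : ∑ L, (if L ∈ D ∧ Nat.card L = N then a L else 0) * cosetMark L M = a M * R := by
            have hdvd : N ∣ Nat.card K := hMN ▸ M.card_subgroup_dvd_card
            refine Nat.eq_of_mul_eq_mul_right (Nat.pos_of_ne_zero hN) ?_
            rw [h1, mul_assoc, Nat.div_mul_cancel hdvd]
          rw [hmark, h2, mul_comm (a M), ← mul_add]
          congr 1
          exact Nat.add_sub_cancel' (Finset.le_sup (Finset.mem_univ M))
        rw [key M hM hMN, key M' hM' (he ▸ hMN)]

end Cfsg.Lib.Fusion.Realization
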